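import Groth.Agent.PhiStab5.Tree
import Mathlib.Algebra.Order.Round

/-!
# φ-(semi)stability of sheaf data on a graph
-/

set_option autoImplicit false
set_option linter.unusedSectionVars false

universe u

namespace PhiStab5

open Finset Groth.Agent.GraphLib PhiStab

variable {V E : Type u} [Fintype V] [Fintype E] [DecidableEq V] [DecidableEq E] {ends : E → V × V}

/-- The edges with exactly one endpoint in `S`. -/
def cutSet (ends : E → V × V) (S : Finset V) : Finset E :=
  univ.filter fun e : E => ((ends e).1 ∈ S ∧ (ends e).2 ∉ S) ∨ ((ends e).1 ∉ S ∧ (ends e).2 ∈ S)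

lemma cut_eq_card (S : Finset V) : LabGraph.cut ends S = (cutSet ends S).card := rfl

lemma cutSet_compl (S : Finset V) : cutSet ends Sᶜ = cutSet ends S := by
  ext e
  simp [cutSet]
  tauto

/-- The slack in the stability inequality at `S`. -/
noncomputable def slack (ends : E → V × V) (φ : V → ℝ) (m : V → ℤ) (N : Finset E) (S : Finset V) : ℝ :=
  (degOn ends m N S : ℝ) - ∑ v ∈ S, φ v + (LabGraph.cut ends S : ℝ) / 2

lemma semi_iff (φ : V → ℝ) (m : V → ℤ) (N : Finset E) (S : Finset V) :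
    (∑ v ∈ S, φ v) - (LabGraph.cut ends S : ℝ) / 2 ≤ (degOn ends m N S : ℝ) ↔ 0 ≤ slack ends φ m N S := by
  unfold slack
  constructor <;> intro h <;> linarith

lemma strict_iff (φ : V → ℝ) (m : V → ℤ) (N : Finset E) (S : Finset V) :
    (∑ v ∈ S, φ v) - (LabGraph.cut ends S : ℝ) / 2 < (degOn ends m N S : ℝ) ↔ 0 < slack ends φ m N S := by
  unfold slack
  constructor <;> intro h <;> linarith

/-- Twice the slack, edge by edge. -/
lemma two_mul_slack (φ : V → ℝ) (m : V → ℤ) (N : Finset E) (S : Finset V) :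
    2 * slack ends φ m N S = 2 * (∑ v ∈ S, ((m v : ℝ) - φ v)) +
      ∑ e : E, ((if e ∈ N then (if (ends e).1 ∈ S ∧ (ends e).2 ∈ S then (2 : ℝ) else 0) else 0) +
        if ((ends e).1 ∈ S ∧ (ends e).2 ∉ S) ∨ ((ends e).1 ∉ S ∧ (ends e).2 ∈ S) then 1 else 0) := by
  have h1 : ((N ∩ PhiStab.inner ends S).card : ℝ) =
      ∑ e : E, if e ∈ N then (if (ends e).1 ∈ S ∧ (ends e).2 ∈ S then (1 : ℝ) else 0) else 0 := by
    rw [card_eq_sum_ones, Nat.cast_sum, sum_ite_mem, univ_inter, ← sum_filter]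
    push_cast
    refine sum_congr ?_ (fun _ _ => rfl)
    ext e
    simp [PhiStab.inner]
  have h2 : (LabGraph.cut ends S : ℝ) =
      ∑ e : E, if ((ends e).1 ∈ S ∧ (ends e).2 ∉ S) ∨ ((ends e).1 ∉ S ∧ (ends e).2 ∈ S) then (1 : ℝ) else 0 := by
    rw [LabGraph.cut, card_eq_sum_ones, Nat.cast_sum, sum_filter]
    simp
  unfold slack
  simp only [degOn, Int.cast_add, Int.cast_sum, Int.cast_natCast, h1, h2, sum_add_distrib, sum_sub_distrib]
  have h3 : (∑ e : E, if e ∈ N then (if (ends e).1 ∈ S ∧ (ends e).2 ∈ S then (2 : ℝ) else 0) else 0) =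
      2 * ∑ e : E, if e ∈ N then (if (ends e).1 ∈ S ∧ (ends e).2 ∈ S then (1 : ℝ) else 0) else 0 := by
    rw [mul_sum]
    exact sum_congr rfl fun e _ => by split_ifs <;> norm_num
  rw [h3]
  ring

lemma slack_union (φ : V → ℝ) (m : V → ℤ) (N : Finset E) {A B : Finset V} (hd : Disjoint A B)
    (h : ∀ e, ((ends e).1 ∈ A → (ends e).2 ∉ B) ∧ ((ends e).1 ∈ B → (ends e).2 ∉ A)) :
    slack ends φ m N (A ∪ B) = slack ends φ m N A + slack ends φ m N B := by
  have key : 2 * slack ends φ m N (A ∪ B) = 2 * slack ends φ m N A + 2 * slack ends φ m N B := by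
    rw [two_mul_slack, two_mul_slack, two_mul_slack, sum_union hd, mul_add, add_add_add_comm, ← sum_add_distrib]
    congr 1
    refine sum_congr rfl fun e _ => ?_
    have h1 : ∀ v, v ∈ A → v ∉ B := fun v hv => disjoint_left.1 hd hv
    by_cases a1 : (ends e).1 ∈ A <;> by_cases a2 : (ends e).2 ∈ A <;> by_cases b1 : (ends e).1 ∈ B <;>
      by_cases b2 : (ends e).2 ∈ B <;>
      first
        | exact absurd b1 (h1 _ a1)
        | exact absurd b2 (h1 _ a2)
        | exact absurd b2 ((h e).1 a1)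
        | exact absurd a2 ((h e).2 b1)
        | simp [a1, a2, b1, b2]
  linarith

lemma slack_add_compl (φ : V → ℝ) (m : V → ℤ) (N : Finset E) (hdeg : (∑ v : V, φ v) = (totDeg m N : ℝ))
    (S : Finset V) :
    slack ends φ m N S + slack ends φ m N Sᶜ = ((cutSet ends S \ N).card : ℝ) := by
  have key : 2 * slack ends φ m N S + 2 * slack ends φ m N Sᶜ = 2 * ((cutSet ends S \ N).card : ℝ) := by
    rw [two_mul_slack, two_mul_slack, add_add_add_comm, ← mul_add, sum_add_sum_compl, ← sum_add_distrib]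
    have h1 : ∑ v : V, ((m v : ℝ) - φ v) = -(N.card : ℝ) := by
      rw [sum_sub_distrib, hdeg, totDeg]
      push_cast
      ring
    have h2 : ((cutSet ends S \ N).card : ℝ) = ∑ e : E, if e ∈ cutSet ends S ∧ e ∉ N then (1 : ℝ) else 0 := by
      rw [card_eq_sum_ones, Nat.cast_sum, ← sum_filter]
      push_cast
      refine sum_congr ?_ (fun _ _ => rfl)
      ext e
      simp
    have h3 : (N.card : ℝ) = ∑ e : E, if e ∈ N then (1 : ℝ) else 0 := by
      rw [card_eq_sum_ones, Nat.cast_sum, sum_ite_mem, univ_inter]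
      simp
    rw [h1, h2, h3, mul_neg, neg_add_eq_sub, mul_sum, mul_sum, ← sum_sub_distrib]
    refine sum_congr rfl fun e _ => ?_
    simp only [cutSet, mem_filter, mem_univ, true_and, mem_compl]
    by_cases hN : e ∈ N <;> by_cases a1 : (ends e).1 ∈ S <;> by_cases a2 : (ends e).2 ∈ S <;>
      simp [hN, a1, a2] <;> norm_num
  linarith

lemma slack_compl_union (φ : V → ℝ) (m : V → ℤ) (N : Finset E) (hdeg : (∑ v : V, φ v) = (totDeg m N : ℝ))
    {A B : Finset V} (hd : Disjoint A B)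
    (h : ∀ e, ((ends e).1 ∈ A → (ends e).2 ∉ B) ∧ ((ends e).1 ∈ B → (ends e).2 ∉ A)) :
    slack ends φ m N (A ∪ B)ᶜ = slack ends φ m N Aᶜ + slack ends φ m N Bᶜ := by
  have h1 := slack_add_compl (ends := ends) φ m N hdeg (A ∪ B)
  have h2 := slack_add_compl (ends := ends) φ m N hdeg A
  have h3 := slack_add_compl (ends := ends) φ m N hdeg B
  have h4 := slack_union (ends := ends) φ m N hd h
  have h5 : cutSet ends (A ∪ B) \ N = (cutSet ends A \ N) ∪ (cutSet ends B \ N) := by
    ext e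
    have := h e
    have h6 : ∀ v, v ∈ A → v ∉ B := fun v hv => disjoint_left.1 hd hv
    have := h6 (ends e).1
    have := h6 (ends e).2
    simp only [cutSet, mem_sdiff, mem_filter, mem_univ, true_and, mem_union]
    tauto
  have h6 : Disjoint (cutSet ends A \ N) (cutSet ends B \ N) := by
    rw [disjoint_left]
    intro e he he'
    have := h e
    have h7 : ∀ v, v ∈ A → v ∉ B := fun v hv => disjoint_left.1 hd hv
    have := h7 (ends e).1
    have := h7 (ends e).2
    simp only [cutSet, mem_sdiff, mem_filter, mem_univ, true_and] at he he'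
    tauto
  rw [h5, card_union_of_disjoint h6, Nat.cast_add] at h1
  linarith

/-- The subgraph induced on `S` is connected. -/
def ConnOn (ends : E → V × V) (S : Finset V) : Prop :=
  S.Nonempty ∧ ∀ v ∈ S, ∀ w ∈ S, Relation.ReflTransGen (AdjT ends (PhiStab.inner ends S)) v w

lemma connOn_iff (S : Finset V) : LabGraph.Connected (indEnds ends S) ↔ ConnOn ends S := by
  constructor
  · rintro ⟨⟨⟨v, hv⟩⟩, h⟩
    refine ⟨⟨v, hv⟩, fun x hx y hy => ?_⟩
    exact Relation.ReflTransGen.lift (fun z : {v : V // v ∈ S} => z.1)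
      (fun a b ⟨e, he⟩ => ⟨e.1, e.2, he.imp
        (fun h => by rw [← congrArg (fun q : {v : V // v ∈ S} × {v : V // v ∈ S} => (q.1.1, q.2.1)) h]; rfl)
        (fun h => by rw [← congrArg (fun q : {v : V // v ∈ S} × {v : V // v ∈ S} => (q.1.1, q.2.1)) h]; rfl)⟩)
      _ _ (h ⟨x, hx⟩ ⟨y, hy⟩)
  · rintro ⟨⟨v, hv⟩, h⟩
    refine ⟨⟨⟨v, hv⟩⟩, fun x y => ?_⟩
    obtain ⟨x, hx⟩ := x
    obtain ⟨y, hy⟩ := y
    have hp := h x hx y hy
    clear h hv v
    induction hp using Relation.ReflTransGen.head_induction_on with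
    | refl => exact .refl
    | @head a b hab _ ih =>
      obtain ⟨e, he, hab⟩ := hab
      have hmem := (mem_filter.1 he).2
      have hb : b ∈ S := by
        rcases hab with hab | hab <;> rw [hab] at hmem
        · exact hmem.2
        · exact hmem.1
      refine Relation.ReflTransGen.head ⟨⟨e, he⟩, ?_⟩ (ih hb)
      rcases hab with hab | hab
      · exact Or.inl (Prod.ext (Subtype.ext (congrArg Prod.fst hab)) (Subtype.ext (congrArg Prod.snd hab)))
      · exact Or.inr (Prod.ext (Subtype.ext (congrArg Prod.fst hab)) (Subtype.ext (congrArg Prod.snd hab)))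

lemma elementary_proper {S : Finset V} (h : IsElementary ends S) : S.Nonempty ∧ S ≠ univ := by
  refine ⟨((connOn_iff S).1 h.1).1, fun he => ?_⟩
  obtain ⟨v, hv⟩ := ((connOn_iff Sᶜ).1 h.2).1
  simp [he] at hv

lemma exists_split {S : Finset V} (hS : S.Nonempty) (h : ¬ ConnOn ends S) :
    ∃ A B : Finset V, A.Nonempty ∧ B.Nonempty ∧ Disjoint A B ∧ A ∪ B = S ∧
      ∀ e, ((ends e).1 ∈ A → (ends e).2 ∉ B) ∧ ((ends e).1 ∈ B → (ends e).2 ∉ A) := by
  classical
  simp only [ConnOn, hS, true_and] at h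
  push Not at h
  obtain ⟨v, hv, w, hw, hvw⟩ := h
  let A := S.filter fun x => Relation.ReflTransGen (AdjT ends (PhiStab.inner ends S)) v x
  let B := S.filter fun x => ¬ Relation.ReflTransGen (AdjT ends (PhiStab.inner ends S)) v x
  refine ⟨A, B, ⟨v, mem_filter.2 ⟨hv, .refl⟩⟩, ⟨w, mem_filter.2 ⟨hw, hvw⟩⟩, disjoint_filter_filter_not _ _ _,
    filter_union_filter_not_eq _ _, fun e => ⟨fun h1 h2 => ?_, fun h1 h2 => ?_⟩⟩
  · simp only [A, B, mem_filter] at h1 h2
    exact h2.2 (h1.2.tail ⟨e, by simp [PhiStab.inner, h1.1, h2.1], Or.inl rfl⟩)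
  · simp only [A, B, mem_filter] at h1 h2
    exact h1.2 (h2.2.tail ⟨e, by simp [PhiStab.inner, h1.1, h2.1], Or.inr rfl⟩)

lemma connOn_union {S A B : Finset V} (hconn : LabGraph.Connected ends) (hS : ConnOn ends S)
    (hSc : A ∪ B = Sᶜ) (h : ∀ e, ((ends e).1 ∈ A → (ends e).2 ∉ B) ∧ ((ends e).1 ∈ B → (ends e).2 ∉ A)) :
    ConnOn ends (S ∪ B) := by
  obtain ⟨⟨s, hs⟩, hS'⟩ := hS
  have key : ∀ v ∈ S ∪ B, Relation.ReflTransGen (AdjT ends (PhiStab.inner ends (S ∪ B))) v s := by
    intro v hv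
    have hp := hconn.2 v s
    induction hp using Relation.ReflTransGen.head_induction_on with
    | refl => exact .refl
    | @head a b hab _ ih =>
      by_cases ha : a ∈ S
      · exact Relation.ReflTransGen.mono
          (fun x y ⟨e, he, he'⟩ => ⟨e, by simp [PhiStab.inner] at he ⊢; exact ⟨Or.inl he.1, Or.inl he.2⟩, he'⟩) _ _
          (hS' a ha s hs)
      have haB : a ∈ B := (mem_union.1 hv).resolve_left ha
      obtain ⟨e, he⟩ := hab
      have hb : b ∈ S ∪ B := by
        by_contra hb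
        have hbA : b ∈ A := by
          have h1 : b ∈ Sᶜ := mem_compl.2 fun hb' => hb (mem_union_left _ hb')
          rw [← hSc] at h1
          exact (mem_union.1 h1).resolve_right fun hb' => hb (mem_union_right _ hb')
        rcases he with he | he
        · exact (h e).2 (by rw [he]; exact haB) (by rw [he]; exact hbA)
        · exact (h e).1 (by rw [he]; exact hbA) (by rw [he]; exact haB)
      refine Relation.ReflTransGen.head ⟨e, ?_, he⟩ (ih hb)
      rcases he with he | he <;> simp [PhiStab.inner, he, mem_union.1 hv, mem_union.1 hb]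
  exact ⟨⟨s, mem_union_left _ hs⟩, fun v hv w hw => (key v hv).trans (rtg_symm (key w hw))⟩

theorem forall_of_elementary (hconn : LabGraph.Connected ends) (φ : V → ℝ) (m : V → ℤ) (N : Finset E)
    (hdeg : (∑ v : V, φ v) = (totDeg m N : ℝ)) (P : ℝ → Prop) (hP : ∀ a b, P a → P b → P (a + b))
    (h : ∀ S, IsElementary ends S → P (slack ends φ m N S)) :
    ∀ S : Finset V, S.Nonempty → S ≠ univ → P (slack ends φ m N S) := by
  have hconnCase : ∀ S : Finset V, ConnOn ends S → S ≠ univ → P (slack ends φ m N S) := by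
    intro S
    induction hn : Sᶜ.card using Nat.strong_induction_on generalizing S with
    | _ n ih =>
    subst hn
    intro hS hSu
    by_cases hc : ConnOn ends Sᶜ
    · exact h S ⟨(connOn_iff S).2 hS, (connOn_iff Sᶜ).2 hc⟩
    obtain ⟨A, B, hA, hB, hd, hu, he⟩ :=
      exists_split (nonempty_iff_ne_empty.2 fun h' => hSu (by rw [← compl_compl S, h', compl_empty])) hc
    have hlt : A.card < Sᶜ.card ∧ B.card < Sᶜ.card := by
      rw [← hu, card_union_of_disjoint hd]
      exact ⟨Nat.lt_add_of_pos_right hB.card_pos, Nat.lt_add_of_pos_left hA.card_pos⟩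
    have hS' : S = (A ∪ B)ᶜ := by rw [hu, compl_compl]
    have hAc : Aᶜ = S ∪ B := by
      rw [hS']
      ext v
      have : v ∈ A → v ∉ B := fun h1 => disjoint_left.1 hd h1
      simp
      tauto
    have hBc : Bᶜ = S ∪ A := by
      rw [hS']
      ext v
      have : v ∈ A → v ∉ B := fun h1 => disjoint_left.1 hd h1
      simp
      tauto
    rw [hS', slack_compl_union φ m N hdeg hd he]
    refine hP _ _ (ih _ (by rw [compl_compl]; exact hlt.1) Aᶜ rfl ?_ ?_)
      (ih _ (by rw [compl_compl]; exact hlt.2) Bᶜ rfl ?_ ?_)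
    · rw [hAc]; exact connOn_union hconn hS hu he
    · simpa [compl_eq_univ_iff] using hA.ne_empty
    · rw [hBc]
      exact connOn_union hconn hS (by rw [union_comm]; exact hu) fun e => ⟨(he e).2, (he e).1⟩
    · simpa [compl_eq_univ_iff] using hB.ne_empty
  intro S
  induction hn : S.card using Nat.strong_induction_on generalizing S with
  | _ n ih =>
  subst hn
  intro hS hSu
  by_cases hc : ConnOn ends S
  · exact hconnCase S hc hSu
  obtain ⟨A, B, hA, hB, hd, hu, he⟩ := exists_split hS hc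
  rw [← hu, slack_union φ m N hd he]
  have hlt : A.card < S.card ∧ B.card < S.card := by
    rw [← hu, card_union_of_disjoint hd]
    exact ⟨Nat.lt_add_of_pos_right hB.card_pos, Nat.lt_add_of_pos_left hA.card_pos⟩
  refine hP _ _ (ih _ hlt.1 A rfl hA fun h' => ?_) (ih _ hlt.2 B rfl hB fun h' => ?_)
  · obtain ⟨b, hb⟩ := hB
    exact disjoint_left.1 hd (by rw [h']; exact mem_univ b) hb
  · obtain ⟨a, ha⟩ := hA
    exact disjoint_left.1 hd ha (by rw [h']; exact mem_univ a)

/-! ### Data on a spanning tree -/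

/-- The deviation vector of a datum supported off the tree `T`. -/
noncomputable def dev (ends : E → V × V) (φ : V → ℝ) (m : V → ℤ) (T : Finset E) (v : V) : ℝ :=
  (m v : ℝ) - φ v + (LabGraph.endCount ends Tᶜ v : ℝ) / 2

lemma sum_dev {T : Finset E} (φ : V → ℝ) (m : V → ℤ) (hdeg : (∑ v : V, φ v) = (totDeg m Tᶜ : ℝ)) :
    ∑ v, dev ends φ m T v = 0 := by
  have h1 : ∑ v, (LabGraph.endCount ends Tᶜ v : ℝ) = 2 * (Tᶜ.card : ℝ) := by
    rw [← Nat.cast_sum, sum_endCount]
    simp [mul_comm]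
  simp only [dev, sum_add_distrib, sum_sub_distrib, ← sum_div, h1, hdeg, totDeg]
  push_cast
  ring

lemma two_mul_slack_tree {T : Finset E} (φ : V → ℝ) (m : V → ℤ) (S : Finset V) :
    2 * slack ends φ m Tᶜ S = 2 * (∑ v ∈ S, dev ends φ m T v) + ((T ∩ cutSet ends S).card : ℝ) := by
  have h1 : ∑ v ∈ S, (LabGraph.endCount ends Tᶜ v : ℝ) = ∑ e : E, if e ∈ Tᶜ then
      ((if (ends e).1 ∈ S then (1 : ℝ) else 0) + if (ends e).2 ∈ S then 1 else 0) else 0 := by
    rw [← Nat.cast_sum, sum_endCount, sum_ite_mem, univ_inter]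
    push_cast
    rfl
  have h2 : ((T ∩ cutSet ends S).card : ℝ) = ∑ e : E, if e ∈ T ∧ e ∈ cutSet ends S then (1 : ℝ) else 0 := by
    rw [card_eq_sum_ones, Nat.cast_sum, ← sum_filter]
    push_cast
    refine sum_congr ?_ (fun _ _ => rfl)
    ext e
    simp
  rw [two_mul_slack, h2]
  simp only [dev, sum_add_distrib, mul_add, ← sum_div]
  rw [h1, show (2 : ℝ) * ((∑ e : E, if e ∈ Tᶜ then
      ((if (ends e).1 ∈ S then (1 : ℝ) else 0) + if (ends e).2 ∈ S then 1 else 0) else 0) / 2) = _ from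
      mul_div_cancel₀ _ two_ne_zero, add_assoc, ← sum_add_distrib, ← sum_add_distrib]
  congr 1
  refine sum_congr rfl fun e _ => ?_
  simp only [cutSet, mem_filter, mem_univ, true_and, mem_compl]
  by_cases hT : e ∈ T <;> by_cases a1 : (ends e).1 ∈ S <;> by_cases a2 : (ends e).2 ∈ S <;>
    simp [hT, a1, a2] <;> norm_num

lemma dev_eq_flowSum {T : Finset E} {r : V} (hT : Good ends T {r}) (φ : V → ℝ) (m : V → ℤ)
    (hdeg : (∑ v : V, φ v) = (totDeg m Tᶜ : ℝ)) :
    dev ends φ m T = flowSum ends T (fun e => ∑ v ∈ sd ends T e, dev ends φ m T v) := by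
  refine sub_eq_zero.1 (eq_zero_of_sums hT _ (fun e he => ?_) ?_)
  · simp only [Pi.sub_apply, sum_sub_distrib]
    rw [sum_sd_flowSum hT _ he, sub_self]
  · simp only [Pi.sub_apply, sum_sub_distrib]
    rw [sum_dev φ m hdeg, sum_flowSum]
    simp

lemma semistable_of_bound {T : Finset E} {r : V} (hT : Good ends T {r}) (φ : V → ℝ) (m : V → ℤ)
    (hdeg : (∑ v : V, φ v) = (totDeg m Tᶜ : ℝ))
    (h : ∀ e ∈ T, |2 * ∑ v ∈ sd ends T e, dev ends φ m T v| ≤ 1) : IsSemistable ends φ m Tᶜ := by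
  intro S _ _
  rw [semi_iff]
  have key : 0 ≤ 2 * slack ends φ m Tᶜ S := by
    rw [two_mul_slack_tree, dev_eq_flowSum hT φ m hdeg, sum_flowSum, mul_sum, ← filter_mem_eq_inter,
      card_eq_sum_ones, Nat.cast_sum, sum_filter, ← sum_add_distrib]
    refine sum_nonneg fun e he => ?_
    have := abs_le.1 (h e he)
    simp only [cutSet, mem_filter, mem_univ, true_and]
    by_cases a1 : (ends e).1 ∈ S <;> by_cases a2 : (ends e).2 ∈ S <;> simp [a1, a2] <;> linarith
  linarith

lemma tree_inter_cutSet_sd {T : Finset E} {r : V} (hT : Good ends T {r}) {e : E} (he : e ∈ T) :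
    T ∩ cutSet ends (sd ends T e) = {e} := by
  ext e'
  simp only [cutSet, mem_inter, mem_filter, mem_univ, true_and, mem_singleton]
  constructor
  · rintro ⟨he', h⟩
    by_contra hne
    have := mem_sd_iff (ends := ends) he' hne
    tauto
  · rintro rfl
    exact ⟨he, Or.inl ⟨fst_mem_sd T _, snd_notMem_sd hT he⟩⟩

lemma bound_of_stable {T : Finset E} {r : V} (hT : Good ends T {r}) (φ : V → ℝ) (m : V → ℤ)
    (hdeg : (∑ v : V, φ v) = (totDeg m Tᶜ : ℝ)) (h : IsStable ends φ m Tᶜ) {e : E} (he : e ∈ T) :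
    |2 * ∑ v ∈ sd ends T e, dev ends φ m T v| < 1 := by
  have hne : (sd ends T e).Nonempty := ⟨_, fst_mem_sd T e⟩
  have hnu : sd ends T e ≠ univ := fun h' => snd_notMem_sd hT he (h' ▸ mem_univ _)
  have h1 := (strict_iff φ m Tᶜ _).1 (h _ hne hnu)
  have h2 := (strict_iff φ m Tᶜ _).1 (h (sd ends T e)ᶜ ⟨_, mem_compl.2 (snd_notMem_sd hT he)⟩ (by
    simpa [compl_eq_univ_iff] using hne.ne_empty))
  have h3 := two_mul_slack_tree (ends := ends) (T := T) φ m (sd ends T e)
  have h4 := two_mul_slack_tree (ends := ends) (T := T) φ m (sd ends T e)ᶜ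
  have h5 := sum_add_sum_compl (sd ends T e) (dev ends φ m T)
  rw [sum_dev φ m hdeg] at h5
  rw [tree_inter_cutSet_sd hT he, card_singleton, Nat.cast_one] at h3
  rw [cutSet_compl, tree_inter_cutSet_sd hT he, card_singleton, Nat.cast_one] at h4
  rw [abs_lt]
  constructor <;> linarith

theorem existsUnique_stable {T : Finset E} {r : V} (hT : Good ends T {r}) (b : ℤ) (φ : V → ℝ)
    (hφ : (∑ v : V, φ v) = (b : ℝ)) (hnd : Nondegenerate ends φ) :
    ∃! m : V → ℤ, totDeg m Tᶜ = b ∧ IsStable ends φ m Tᶜ := by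
  obtain ⟨m, hm, hm0⟩ := exists_weight (ends := ends) hT
    (fun e => round ((∑ v ∈ sd ends T e, φ v) - (∑ v ∈ sd ends T e, (LabGraph.endCount ends Tᶜ v : ℝ)) / 2))
    (b - (Tᶜ.card : ℤ))
  have htot : totDeg m Tᶜ = b := by simp [totDeg, hm0]
  have hdeg : (∑ v : V, φ v) = (totDeg m Tᶜ : ℝ) := by rw [htot, hφ]
  have hsum : ∀ (m : V → ℤ) (S : Finset V), ∑ v ∈ S, dev ends φ m T v = ((∑ v ∈ S, m v : ℤ) : ℝ) -
      ((∑ v ∈ S, φ v) - (∑ v ∈ S, (LabGraph.endCount ends Tᶜ v : ℝ)) / 2) := by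
    intro m S
    simp only [dev, sum_add_distrib, sum_sub_distrib, ← sum_div, Int.cast_sum]
    ring
  refine ⟨m, ⟨htot, hnd m Tᶜ hdeg (semistable_of_bound hT φ m hdeg fun e he => ?_)⟩, ?_⟩
  · rw [hsum, hm e he]
    have := abs_sub_round ((∑ v ∈ sd ends T e, φ v) - (∑ v ∈ sd ends T e, (LabGraph.endCount ends Tᶜ v : ℝ)) / 2)
    rw [abs_le] at this ⊢
    constructor <;> linarith
  rintro m' ⟨htot', hst'⟩
  have hdeg' : (∑ v : V, φ v) = (totDeg m' Tᶜ : ℝ) := by rw [htot', hφ]
  have hst : IsStable ends φ m Tᶜ := hnd m Tᶜ hdeg (semistable_of_bound hT φ m hdeg fun e he => by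
    rw [hsum, hm e he]
    have := abs_sub_round ((∑ v ∈ sd ends T e, φ v) - (∑ v ∈ sd ends T e, (LabGraph.endCount ends Tᶜ v : ℝ)) / 2)
    rw [abs_le] at this ⊢
    constructor <;> linarith)
  refine sub_eq_zero.1 (eq_zero_of_sums hT (m' - m) (fun e he => ?_) ?_)
  · simp only [Pi.sub_apply, sum_sub_distrib]
    have h1 := abs_lt.1 (bound_of_stable hT φ m' hdeg' hst' he)
    have h2 := abs_lt.1 (bound_of_stable hT φ m hdeg hst he)
    rw [hsum] at h1 h2
    have h3 : ((∑ v ∈ sd ends T e, m' v - ∑ v ∈ sd ends T e, m v : ℤ) : ℝ) < ((1 : ℤ) : ℝ) := by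
      push_cast at *
      linarith
    have h4 : (((-1 : ℤ)) : ℝ) < ((∑ v ∈ sd ends T e, m' v - ∑ v ∈ sd ends T e, m v : ℤ) : ℝ) := by
      push_cast at *
      linarith
    have := Int.cast_lt.1 h3
    have := Int.cast_lt.1 h4
    omega
  · simp only [Pi.sub_apply, sum_sub_distrib]
    simp only [totDeg] at htot htot'
    omega

end PhiStab5
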