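import Groth.Agent.GraphLib.Potential
import Groth.Prelude.Def_W4c5modbuncurvesppStab

/-!
# Vertex weightings of a tree are determined by the sums over the sides of the edges
-/

set_option autoImplicit false
set_option linter.unusedSectionVars false

universe u

namespace PhiStab5

open Finset Groth.Agent.GraphLib

variable {V E : Type u} [Fintype V] [Fintype E] [DecidableEq V] [DecidableEq E] {ends : E → V × V}

open Classical in
/-- The side of the first endpoint of `e` in the spanning forest with edges `T`. -/
noncomputable def sd (ends : E → V × V) (T : Finset E) (e : E) : Finset V :=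
  univ.filter fun v => Relation.ReflTransGen (AdjT ends (T.erase e)) (ends e).1 v

lemma fst_mem_sd (T : Finset E) (e : E) : (ends e).1 ∈ sd ends T e := by
  simp [sd, Relation.ReflTransGen.refl]

lemma snd_notMem_sd {T : Finset E} {r : V} (hT : Good ends T {r}) {e : E} (he : e ∈ T) :
    (ends e).2 ∉ sd ends T e := by
  simp [sd, not_conn_of_good hT he]

lemma mem_sd_iff {T : Finset E} {e e' : E} (he' : e' ∈ T) (hne : e' ≠ e) :
    (ends e').1 ∈ sd ends T e ↔ (ends e').2 ∈ sd ends T e := by
  simp only [sd, mem_filter, mem_univ, true_and]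
  exact ⟨fun h => h.tail ⟨e', mem_erase.2 ⟨hne, he'⟩, Or.inl rfl⟩,
    fun h => h.tail ⟨e', mem_erase.2 ⟨hne, he'⟩, Or.inr rfl⟩⟩

variable {M : Type*} [AddCommGroup M]

/-- Sum of the boundary of a tree flow over a vertex set. -/
def flowSum (ends : E → V × V) (T : Finset E) (z : E → M) (v : V) : M :=
  ∑ e ∈ T, ((if (ends e).1 = v then z e else 0) - (if (ends e).2 = v then z e else 0))

omit [Fintype V] [Fintype E] [DecidableEq E] in
lemma sum_flowSum (T : Finset E) (z : E → M) (S : Finset V) :
    ∑ v ∈ S, flowSum ends T z v =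
      ∑ e ∈ T, ((if (ends e).1 ∈ S then z e else 0) - (if (ends e).2 ∈ S then z e else 0)) := by
  unfold flowSum
  rw [sum_comm]
  refine sum_congr rfl fun e _ => ?_
  rw [sum_sub_distrib, sum_ite_eq, sum_ite_eq]

lemma sum_sd_flowSum {T : Finset E} {r : V} (hT : Good ends T {r}) (z : E → M) {e : E} (he : e ∈ T) :
    ∑ v ∈ sd ends T e, flowSum ends T z v = z e := by
  rw [sum_flowSum, sum_eq_single e (fun e' he' hne => ?_) (fun h => absurd he h),
    if_pos (fst_mem_sd T e), if_neg (snd_notMem_sd hT he), sub_zero]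
  by_cases h : (ends e').1 ∈ sd ends T e
  · rw [if_pos h, if_pos ((mem_sd_iff he' hne).1 h), sub_self]
  · rw [if_neg h, if_neg (mt (mem_sd_iff he' hne).2 h), sub_self]

lemma exists_weight {T : Finset E} {r : V} (hT : Good ends T {r}) (c : E → M) (c₀ : M) :
    ∃ φ : V → M, (∀ e ∈ T, ∑ v ∈ sd ends T e, φ v = c e) ∧ ∑ v, φ v = c₀ := by
  classical
  refine ⟨fun v => (if v = r then c₀ else 0) +
    flowSum ends T (fun e => c e - if r ∈ sd ends T e then c₀ else 0) v, fun e he => ?_, ?_⟩
  · rw [sum_add_distrib, sum_ite_eq', sum_sd_flowSum hT _ he]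
    abel
  · rw [sum_add_distrib, sum_ite_eq', if_pos (mem_univ r), sum_flowSum]
    simp

lemma eq_zero_of_sums {T : Finset E} {r : V} (hT : Good ends T {r}) (ψ : V → M)
    (h : ∀ e ∈ T, ∑ v ∈ sd ends T e, ψ v = 0) (h0 : ∑ v, ψ v = 0) : ψ = 0 := by
  classical
  funext x
  -- the indicator of `x` in terms of sides
  let g : V → ℤ := fun v => if v = x then 1 else 0
  let a : E → ℤ := fun e => g (ends e).1 - g (ends e).2
  let g' : V → ℤ := fun v =>
    g r + ∑ e ∈ T, a e * ((if v ∈ sd ends T e then 1 else 0) - if r ∈ sd ends T e then 1 else 0)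
  have hgg : ∀ v, g' v = g v := by
    have hstep : ∀ e ∈ T, g' (ends e).1 - g' (ends e).2 = a e := by
      intro e he
      simp only [g', add_sub_add_left_eq_sub, ← sum_sub_distrib]
      rw [sum_eq_single e (fun e' he' hne => ?_) (fun h => absurd he h),
        if_pos (fst_mem_sd T e), if_neg (snd_notMem_sd hT he)]
      · ring
      · by_cases hm : (ends e).1 ∈ sd ends T e'
        · rw [if_pos hm, if_pos ((mem_sd_iff he (Ne.symm hne)).1 hm), sub_self]
        · rw [if_neg hm, if_neg (mt (mem_sd_iff he (Ne.symm hne)).2 hm), sub_self]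
    intro v
    obtain ⟨s, hs, hp⟩ := hT.1 v
    rw [mem_singleton] at hs
    subst hs
    suffices g' v - g v = g' s - g s by
      have h2 : g' s = g s := by simp [g']
      omega
    induction hp using Relation.ReflTransGen.head_induction_on with
    | refl => rfl
    | @head v w hvw _ ih =>
      obtain ⟨e, he, hvw⟩ := hvw
      have := hstep e he
      rw [← ih]
      rcases hvw with hvw | hvw <;>
        (simp only [a, hvw] at this; omega)
  have h1 : ψ x = ∑ v, g v • ψ v := by simp [g]
  rw [h1, sum_congr rfl fun v _ => by rw [← hgg v]]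
  simp only [g', add_smul, sum_smul, sum_add_distrib, mul_smul, sub_smul, ite_smul, one_smul, zero_smul]
  rw [sum_comm, ← smul_sum, h0, smul_zero, zero_add]
  refine sum_eq_zero fun e he => ?_
  rw [← smul_sum, sum_sub_distrib, sum_ite_mem, univ_inter, h e he]
  by_cases hr : r ∈ sd ends T e <;> simp [hr, h0]

lemma good_univ_of_isTree {r : V} (hT : DualGr.IsTree ends) : Good ends univ {r} := by
  rw [← isSpanningTree_iff, LabGraph.IsSpanningTree, DualGr.IsTree, connected_iff univ r, isForest_iff]
  refine ⟨spans_univ hT.1 r, fun C _ hne => ?_⟩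
  by_contra hc
  push Not at hc
  obtain ⟨C', -, hC'⟩ := exists_circuit hne hc
  exact hT.2 C' hC'

lemma sd_univ (e : E) : sd ends univ e = PhiStab.side ends e := by
  classical
  ext v
  simp only [sd, PhiStab.side, mem_filter, mem_univ, true_and]
  exact (rtg_sub (univ.erase e) _ v).symm

end PhiStab5
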